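import Cfsg.Agent.SmallPrincipal.Section

/-!
# Basic counts in a small principal block
-/

set_option autoImplicit false
set_option linter.unusedSectionVars false
set_option linter.style.haveILetI false

namespace CfsgLib.SmallPrincipal

open Cfsg CfsgLib.Blocks CfsgLib.PrincipalBlock CfsgLib.BlocksLocal
open scoped ComplexConjugate

universe u

variable {G : Type u} [Group G] [Fintype G] {M : Ideal AlgInt} [M.IsPrime] {p : ℕ} [Fact p.Prime]

/-- The subsections of the principal block at a `p`-element have the rank of the principal block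
of the centraliser. -/
theorem subsection_rank_eq (hM : Cfsg.IsPModular p M) {x : G} (hx : ∃ k, orderOf x = p ^ k) :
    ∑ᶠ b ∈ {b : Set (IrrCharacter ↥(Subgroup.centralizer ({x} : Set G))) |
        Cfsg.IsInducedBlock M (Subgroup.centralizer ({x} : Set G)) b (Cfsg.principalBlock M G)},
      Cfsg.blockRank p b =
    Cfsg.blockRank p (Cfsg.principalBlock M (Subgroup.centralizer ({x} : Set G))) := by
  haveI := Fintype.ofFinite (Subgroup.centralizer ({x} : Set G))
  have hset : {b : Set (IrrCharacter ↥(Subgroup.centralizer ({x} : Set G))) |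
      Cfsg.IsInducedBlock M (Subgroup.centralizer ({x} : Set G)) b (Cfsg.principalBlock M G)} =
      {Cfsg.principalBlock M (Subgroup.centralizer ({x} : Set G))} := by
    ext b
    rw [Set.mem_ofPred_eq, Set.mem_singleton_iff]
    refine ⟨fun hb => (isInducedBlock_principal_iff hM ⟨_, hb⟩).1 hb, fun hb => ?_⟩
    subst hb
    obtain ⟨ξ, hξ⟩ := isPBlock_nonempty (isPBlock_principalBlock (M := M)
      (G := Subgroup.centralizer ({x} : Set G)))
    rw [eq_blockOf_of_mem isPBlock_principalBlock hξ]
    refine isInducedBlock_of_mem_overSet hM hx isPBlock_principalBlock ?_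
    rw [overSet_principal hM hx]
    exact hξ
  rw [hset, finsum_mem_singleton]

open Classical in
/-- The column of a nontrivial `p`-element is orthogonal to the degrees. -/
theorem degree_orth (hM : Cfsg.IsPModular p M) {x : G} (hx : p ∣ orderOf x) :
    ∑ χ : IrrCharacter G, (if χ ∈ Cfsg.principalBlock M G then
        (χ : G → ℂ) 1 * (χ : G → ℂ) x else 0) = 0 := by
  have h := blockCoeff_eq_zero_of_singular hM
    (isBlockUnion_of_isPBlock (M := M) (isPBlock_principalBlock (G := G))) hx
  rw [Cfsg.blockCoeff, mul_eq_zero,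
    or_iff_right (inv_ne_zero (Nat.cast_ne_zero.2 Nat.card_pos.ne')), finsum_irr_mem] at h
  refine (map_eq_zero (starRingEnd ℂ)).1 (Eq.trans ?_ h)
  rw [map_sum]
  refine Finset.sum_congr rfl fun χ _ => ?_
  split_ifs
  · rw [map_mul, ← charDegree_cast, map_natCast]
  · rw [map_zero]

open Classical in
/-- Without `p` in the group order the principal block is trivial. -/
theorem eq_trivChar_of_not_dvd (hM : Cfsg.IsPModular p M) (hp : ¬ p ∣ Nat.card G)
    {χ : IrrCharacter G} (hχ : χ ∈ Cfsg.principalBlock M G) : χ = trivChar G := by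
  by_contra hne
  refine (PrincipalColumn.mem_principalBlock_iff_regInner hM χ).1 hχ ?_
  have h := Characters.classInner_irr χ (trivChar G)
  rw [if_neg hne, Cfsg.classInner] at h
  rw [BlockPairing.regInner, ← h]
  congr 1
  exact Finset.sum_congr rfl fun g _ => if_neg fun hd => hp (hd.trans (orderOf_dvd_natCard g))

open Classical in
/-- A block with at most three characters one of which is trivial: two further characters. -/
theorem exists_pair (hk : Nat.card (Cfsg.principalBlock M G) = 3) :
    ∃ α β : IrrCharacter G, α ≠ β ∧ α ≠ trivChar G ∧ β ≠ trivChar G ∧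
      (Finset.univ.filter fun χ : IrrCharacter G => χ ∈ Cfsg.principalBlock M G) =
        {trivChar G, α, β} := by
  set B := Finset.univ.filter fun χ : IrrCharacter G => χ ∈ Cfsg.principalBlock M G
  have ht : trivChar G ∈ B := Finset.mem_filter.2 ⟨Finset.mem_univ _, trivChar_mem⟩
  have hc : (B.erase (trivChar G)).card = 2 := by
    rw [Finset.card_erase_of_mem ht, show B.card = 3 by
      rw [← hk, Nat.card_eq_fintype_card, ← Fintype.card_subtype]]
  obtain ⟨α, β, hne, he⟩ := Finset.card_eq_two.1 hc
  refine ⟨α, β, hne, ?_, ?_, ?_⟩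
  · exact (Finset.mem_erase.1 (he ▸ Finset.mem_insert_self α {β})).1
  · exact (Finset.mem_erase.1 (he ▸ Finset.mem_insert_of_mem (Finset.mem_singleton_self β))).1
  · rw [← he, Finset.insert_erase ht]

open Classical in
/-- The rank of a principal block with a `p`-singular element is less than its size. -/
theorem blockRank_lt (hM : Cfsg.IsPModular p M) {x : G} (hx : ∃ k, orderOf x = p ^ k)
    (hx1 : x ≠ 1) :
    Cfsg.blockRank p (Cfsg.principalBlock M G) < Nat.card (Cfsg.principalBlock M G) := by
  set f := fun φ : IrrCharacter G => Cfsg.pRegularPart p (φ : G → ℂ) with hf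
  set B := Finset.univ.filter fun χ : IrrCharacter G => χ ∈ Cfsg.principalBlock M G with hB
  have ht : trivChar G ∈ B := Finset.mem_filter.2 ⟨Finset.mem_univ _, trivChar_mem⟩
  have hrel : f (trivChar G) = -∑ χ ∈ B.erase (trivChar G), (χ : G → ℂ) x⁻¹ • f χ := by
    funext g
    rw [Pi.neg_apply, Finset.sum_apply, eq_neg_iff_add_eq_zero]
    simp only [hf, Pi.smul_apply, smul_eq_mul, Cfsg.pRegularPart]
    by_cases hg : Cfsg.IsPRegular p g
    · simp only [if_pos hg]
      have hg1 : Cfsg.IsPPart p g 1 :=
        ⟨g, one_mul g, Commute.one_left g, ⟨0, by simp⟩, hg⟩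
      have hxp : Cfsg.IsPPart p x x :=
        ⟨1, mul_one x, Commute.one_right x, hx, by simp [(Fact.out : p.Prime).ne_one]⟩
      have h := sum_block_mul_inv_eq_zero hM hg1 hxp (fun h => hx1 (isConj_one_left.1 h.symm |>.symm ▸ rfl))
        (isPBlock_principalBlock (G := G) (M := M))
      rw [← Finset.sum_filter, ← hB, ← Finset.add_sum_erase _ _ ht, trivChar_apply,
        trivChar_apply, one_mul] at h
      rw [trivChar_apply, ← h]
      congr 1
      exact Finset.sum_congr rfl fun χ _ => mul_comm _ _
    · simp [hg]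
  refine lt_of_le_of_lt ?_ (show (B.erase (trivChar G)).card < Nat.card (Cfsg.principalBlock M G) by
    rw [show Nat.card (Cfsg.principalBlock M G) = B.card by
      rw [Nat.card_eq_fintype_card, hB, ← Fintype.card_subtype]]
    exact Finset.card_erase_lt_of_mem ht)
  rw [Cfsg.blockRank]
  refine le_trans (Submodule.finrank_mono (show Submodule.span ℂ (f '' Cfsg.principalBlock M G) ≤
    Submodule.span ℂ ((B.erase (trivChar G)).image f : Set (G → ℂ)) from ?_))
    ((finrank_span_finset_le_card _).trans Finset.card_image_le)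
  rw [Submodule.span_le]
  rintro _ ⟨χ, hχ, rfl⟩
  by_cases h : χ = trivChar G
  · rw [h, SetLike.mem_coe, hrel]
    exact neg_mem (Submodule.sum_mem _ fun ψ hψ => Submodule.smul_mem _ _
      (Submodule.subset_span (Finset.mem_coe.2 (Finset.mem_image_of_mem f hψ))))
  · exact Submodule.subset_span (Finset.mem_coe.2 (Finset.mem_image_of_mem f
      (Finset.mem_erase.2 ⟨h, Finset.mem_filter.2 ⟨Finset.mem_univ _, hχ⟩⟩)))

/-- An integral rational multiple equation forces a unit. -/
theorem sq_eq_one_of_mul_int {a : ℂ} (ha : IsIntegral ℤ a) {m : ℤ} (h : a * m = -1) :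
    a = 1 ∨ a = -1 := by
  have hm : (m : ℂ) ≠ 0 := fun h0 => by rw [h0, mul_zero] at h; exact one_ne_zero (neg_eq_zero.1 h.symm)
  have hmq : (m : ℚ) ≠ 0 := by exact_mod_cast fun h0 : m = 0 => hm (by rw [h0, Int.cast_zero])
  have hq : a = algebraMap ℚ ℂ (-1 / (m : ℚ)) := by
    rw [eq_ratCast]
    push_cast
    rw [eq_div_iff hm]
    linear_combination h
  rw [hq] at ha
  obtain ⟨z, hz⟩ := IsIntegrallyClosed.isIntegral_iff.1
    ((isIntegral_algHom_iff (Algebra.ofId ℚ ℂ |>.restrictScalars ℤ) (RingHom.injective _)).1 ha)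
  have hzc : a = (z : ℂ) := by rw [hq, ← hz]; simp
  have hzm : z * m = -1 := by
    have : ((z * m : ℤ) : ℂ) = ((-1 : ℤ) : ℂ) := by push_cast; rw [← hzc]; exact h
    exact_mod_cast this
  rcases Int.isUnit_iff.1 (isUnit_of_mul_isUnit_left (x := z) (y := m) (by rw [hzm]; decide)) with h1 | h1
  · left; rw [hzc, h1, Int.cast_one]
  · right; rw [hzc, h1]; simp

/-- Values at a real element are real. -/
theorem conj_value {x : G} (hx : IsConj x x⁻¹) (χ : IrrCharacter G) :
    conj ((χ : G → ℂ) x) = (χ : G → ℂ) x := by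
  obtain ⟨c, hc⟩ := isConj_iff.1 hx
  have h := Characters.isClassFunction_of_isIrr χ.2 x c
  obtain ⟨n, ρ, -, hρ⟩ := χ.2
  rw [hc, ← hρ, Characters.char_inv] at h
  rw [← hρ]
  exact h

end CfsgLib.SmallPrincipal
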