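import Cfsg.Agent.SmallPrincipal.Count
import Cfsg.Agent.InvolutionCount.Basic
import Cfsg.Agent.Blocks.Defect
import Cfsg.Agent.S4607

/-!
# Principal blocks with three characters

`card_sylow_eq_three`: the Sylow subgroups have order three.  With rank two all nontrivial
`p`-elements are conjugate, so the column at such an element is real; the indicator equation then
makes its two entries equal up to sign, and orthogonality to the degrees makes them units.
-/

set_option autoImplicit false
set_option linter.unusedSectionVars false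
set_option linter.style.haveILetI false

namespace CfsgLib.SmallPrincipal

open Cfsg CfsgLib.Blocks CfsgLib.PrincipalBlock
open scoped ComplexConjugate

universe u

variable {G : Type u} [Group G] [Fintype G] {M : Ideal AlgInt} [M.IsPrime] {p : ℕ} [Fact p.Prime]

/-- A prime power congruent to one plus one square or one square plus two. -/
theorem two_add_sq_ne {p b n : ℕ} [hp : Fact p.Prime] (hb : b ≠ 0) (hn : n ≠ 0) :
    2 + p ^ b * p ^ b ≠ p ^ n := by
  intro h
  have hdb : p ∣ p ^ b * p ^ b := (dvd_pow_self p hb).mul_right _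
  have h2 : p = 2 := (Nat.prime_dvd_prime_iff_eq hp.out Nat.prime_two).1
    ((Nat.dvd_add_iff_left hdb).2 (h ▸ dvd_pow_self p hn))
  subst h2
  obtain ⟨b', rfl⟩ : ∃ b', b = b' + 1 := ⟨b - 1, by omega⟩
  have h4 : (4 : ℕ) ∣ 2 ^ (b' + 1) * 2 ^ (b' + 1) := ⟨2 ^ b' * 2 ^ b', by ring⟩
  obtain ⟨c, hc⟩ := h4
  rcases n with _ | _ | n
  · exact hn rfl
  · have : 0 < 2 ^ (b' + 1) * 2 ^ (b' + 1) := by positivity
    rw [zero_add, pow_one] at h
    omega
  · obtain ⟨d, hd⟩ : (4 : ℕ) ∣ 2 ^ (n + 1 + 1) := ⟨2 ^ n, by ring⟩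
    omega

/-- The degrees in a three character principal block of a group with a normal `p`-complement. -/
theorem three_of_powers {p a b n : ℕ} [hp : Fact p.Prime] (hn : n ≠ 0)
    (h : 1 + (p ^ a * p ^ a + p ^ b * p ^ b) = p ^ n) : p ^ n = 3 := by
  rcases Nat.eq_zero_or_pos a with rfl | ha
  · rcases Nat.eq_zero_or_pos b with rfl | hb
    · simp only [pow_zero, mul_one] at h
      omega
    · exact absurd (by rw [← h]; simp only [pow_zero, mul_one]; ring) (two_add_sq_ne hb.ne' hn)
  · rcases Nat.eq_zero_or_pos b with rfl | hb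
    · exact absurd (by rw [← h]; simp only [pow_zero, mul_one]; ring) (two_add_sq_ne ha.ne' hn)
    · exfalso
      have hd : p ∣ 1 := (Nat.dvd_add_iff_left (dvd_add ((dvd_pow_self p ha.ne').mul_right _)
        ((dvd_pow_self p hb.ne').mul_right _))).2 (h ▸ dvd_pow_self p hn)
      exact hp.out.ne_one (Nat.dvd_one.1 hd)

/-- A real column with proportional entries, orthogonal to the degrees. -/
theorem three_of_column {a b : ℂ} {A B q : ℕ} (ha : IsIntegral ℤ a)
    (ho : 1 + ((A : ℂ) * a + (B : ℂ) * b) = 0) (hb : b = a ∨ b = -a ∨ b = 0)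
    (hN : Complex.normSq 1 + (Complex.normSq a + Complex.normSq b) = (q : ℝ)) (hq : q ≠ 2) :
    q = 3 := by
  have hu : a = 1 ∨ a = -1 := by
    rcases hb with rfl | rfl | rfl
    · exact sq_eq_one_of_mul_int ha (m := (A : ℤ) + B) (by push_cast; linear_combination ho)
    · exact sq_eq_one_of_mul_int ha (m := (A : ℤ) - B) (by push_cast; linear_combination ho)
    · exact sq_eq_one_of_mul_int ha (m := (A : ℤ)) (by push_cast; linear_combination ho)
  have hna : Complex.normSq a = 1 := by rcases hu with rfl | rfl <;> simp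
  rcases hb with rfl | rfl | rfl
  · rw [Complex.normSq_one, hna] at hN
    norm_num at hN
    exact_mod_cast hN.symm
  · rw [Complex.normSq_neg, Complex.normSq_one, hna] at hN
    norm_num at hN
    exact_mod_cast hN.symm
  · rw [Complex.normSq_zero, Complex.normSq_one, hna] at hN
    norm_num at hN
    exact absurd (by exact_mod_cast hN.symm : q = 2) hq

/-- A central element of order `p` of a Sylow subgroup. -/
theorem exists_central (P : Sylow p G) (hdvd : p ∣ Nat.card G) :
    ∃ x ∈ (P : Subgroup G), orderOf x = p ∧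
      (Nat.card (Subgroup.centralizer ({x} : Set G))).factorization p =
        (Nat.card G).factorization p := by
  haveI : Nontrivial (P : Subgroup G) :=
    (Subgroup.nontrivial_iff_ne_bot _).2 (P.ne_bot_of_dvd_card hdvd)
  obtain ⟨z, hz⟩ := exists_prime_orderOf_dvd_card' p (by
    obtain ⟨n, hn⟩ := IsPGroup.iff_card.1 (P.2.to_subgroup (Subgroup.center P))
    haveI := P.2.center_nontrivial
    have h1 : 1 < Nat.card (Subgroup.center (P : Subgroup G)) := Finite.one_lt_card
    rw [hn] at h1 ⊢
    exact dvd_pow_self p fun h0 => by rw [h0, pow_zero] at h1; exact lt_irrefl _ h1)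
  refine ⟨((z : (P : Subgroup G)) : G), (z : (P : Subgroup G)).2,
    by rw [Subgroup.orderOf_coe, Subgroup.orderOf_coe, hz], ?_⟩
  refine le_antisymm ((Nat.factorization_le_iff_dvd Nat.card_pos.ne' Nat.card_pos.ne').2
    (Subgroup.card_subgroup_dvd_card _) p) ?_
  rw [← (Fact.out : p.Prime).pow_dvd_iff_le_factorization Nat.card_pos.ne',
    ← P.card_eq_multiplicity]
  refine Subgroup.card_dvd_of_le fun d hd => Subgroup.mem_centralizer_singleton_iff.2 ?_
  exact congrArg Subtype.val (Subgroup.mem_center_iff.1 z.2 ⟨d, hd⟩)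

open Classical in
/-- The Sylow subgroups have order three. -/
theorem card_sylow_eq_three (hM : Cfsg.IsPModular p M)
    (hk : Nat.card (Cfsg.principalBlock M G) = 3) :
    p ^ (Nat.card G).factorization p = 3 := by
  haveI := CfsgLib.Blocks.charP_res hM
  haveI : IsAlgClosed (CfsgLib.Blocks.Res M) := CfsgLib.BlockPairs.isAlgClosed_res hM
  set n := (Nat.card G).factorization p with hn
  obtain ⟨α, β, hαβ, hα, hβ, hset⟩ := exists_pair hk
  have hsum : ∀ F : IrrCharacter G → ℂ,
      ∑ χ : IrrCharacter G, (if χ ∈ Cfsg.principalBlock M G then F χ else 0) =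
        F (trivChar G) + (F α + F β) := by
    intro F
    rw [← Finset.sum_filter, hset, Finset.sum_insert (by simp [hα.symm, hβ.symm]),
      Finset.sum_pair hαβ]
  have hmemB : ∀ χ, χ ∈ ({trivChar G, α, β} : Finset (IrrCharacter G)) →
      χ ∈ Cfsg.principalBlock M G := fun χ h => by
    rw [← hset] at h
    exact (Finset.mem_filter.1 h).2
  have hαm := hmemB α (by simp)
  have hβm := hmemB β (by simp)
  have hdvd : p ∣ Nat.card G := by
    by_contra hnd
    exact hα (eq_trivChar_of_not_dvd hM hnd hαm)
  have hn0 : n ≠ 0 := ((Fact.out : p.Prime).factorization_pos_of_dvd Nat.card_pos.ne' hdvd).ne'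
  by_cases hl1 : Cfsg.blockRank p (Cfsg.principalBlock M G) = 1
  · -- normal p-complement: the degrees are powers of p
    set K := setKer (Cfsg.principalBlock M G)
    have hidx : K.index = p ^ n := setKer_complement hM hl1
    have hdeg : ∀ χ ∈ Cfsg.principalBlock M G, ∃ a, (χ : G → ℂ) 1 = ((p ^ a : ℕ) : ℂ) := by
      intro χ hχ
      obtain ⟨d, hd, hdd⟩ := degree_dvd_index K χ (iInf₂_le χ hχ)
      obtain ⟨a, -, rfl⟩ := (Nat.dvd_prime_pow Fact.out).1 (hidx ▸ hdd)
      exact ⟨a, hd⟩
    obtain ⟨a, ha⟩ := hdeg α hαm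
    obtain ⟨b, hb⟩ := hdeg β hβm
    have h := BlocksLocal.blockCoeff_principal_of_normal_complement hM K
      (not_dvd_card_setKer hM) ⟨_, hidx⟩ (1 : G)
    rw [Set.indicator_of_mem (SetLike.mem_coe.2 (one_mem K)), mul_one, hidx, Cfsg.blockCoeff,
      ← mul_assoc, mul_inv_cancel₀ (Nat.cast_ne_zero.2 Nat.card_pos.ne'), one_mul,
      finsum_irr_mem, hsum, trivChar_apply, ha, hb] at h
    simp only [map_natCast, map_one, mul_one] at h
    exact three_of_powers hn0 (by exact_mod_cast h)
  -- rank two: one class of nontrivial p-elements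
  obtain ⟨D, hD⟩ := exists_isDefectGroup (M := M) (p := p)
    (isPBlock_principalBlock (G := G) (M := M))
  have hDp : IsPGroup p D := (BlockPairs.isDefectGroup_gblk_iff isPBlock_principalBlock D).1 hD |>.2.1
  obtain ⟨P, rfl⟩ := OneClassP.exists_sylow_eq hM hDp hD
  obtain ⟨x, hxP, hxo, hCn⟩ := exists_central P hdvd
  have hx1 : x ≠ 1 := fun h => by
    rw [h, orderOf_one] at hxo
    exact (Fact.out : p.Prime).ne_one hxo.symm
  have hxk : ∃ k, orderOf x = p ^ k := ⟨1, by rw [hxo, pow_one]⟩
  have hl2 : Nat.card (Cfsg.principalBlock M G) =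
      Cfsg.blockRank p (Cfsg.principalBlock M G) + 1 := by
    have h1 := blockRank_lt hM hxk hx1
    have h2 := BlockPairing.one_le_blockRank (p := p)
      ⟨_, trivChar_mem (G := G) (M := M)⟩
    omega
  obtain ⟨-, hconj, hrank⟩ := OneClassP.subsection_data hM isPBlock_principalBlock hD hl2
  have hxinv : IsConj x x⁻¹ := hconj x hxP x⁻¹ (inv_mem hxP) hx1 (inv_ne_one.2 hx1)
  have hlx := hrank x hxP hx1
  rw [subsection_rank_eq hM hxk] at hlx
  haveI := Fintype.ofFinite (Subgroup.centralizer ({x} : Set G))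
  have hnorm := col_norm hM hxk hlx
  rw [hCn] at hnorm
  have horth := degree_orth (M := M) hM (x := x) (hxo ▸ dvd_refl p)
  obtain ⟨A, hAe⟩ : ∃ A : ℕ, (α : G → ℂ) 1 = A := ⟨_, (charDegree_cast α).symm⟩
  obtain ⟨B, hBe⟩ : ∃ B : ℕ, (β : G → ℂ) 1 = B := ⟨_, (charDegree_cast β).symm⟩
  rw [hsum, trivChar_apply, trivChar_apply, hAe, hBe, one_mul] at horth
  have hint : ∀ χ : IrrCharacter G, IsIntegral ℤ ((χ : G → ℂ) x) := fun χ =>
    Characters.gen_isIntegral
      (Characters.isGen_of_isCharacter (Characters.isCharacter_of_isIrr χ.2)) x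
  have hq : Complex.normSq (1 : ℂ) + (Complex.normSq ((α : G → ℂ) x) +
      Complex.normSq ((β : G → ℂ) x)) = ((p ^ n : ℕ) : ℝ) := by
    have h' : ((∑ χ : IrrCharacter G, (if χ ∈ Cfsg.principalBlock M G then
        Complex.normSq ((χ : G → ℂ) x) else 0) : ℝ) : ℂ) = (((p ^ n : ℕ) : ℝ) : ℂ) := by
      rw [hnorm]
    rw [Complex.ofReal_sum] at h'
    simp only [apply_ite Complex.ofReal, Complex.ofReal_zero] at h'
    rw [hsum, trivChar_apply] at h'
    exact_mod_cast h'
  by_cases hp2 : p = 2
  · exfalso
    subst hp2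
    have hxx : x * x = 1 := by rw [← pow_two]; exact hxo ▸ pow_orderOf_eq_one x
    obtain ⟨a, ha⟩ := BlocksFrobenius.exists_int_apply α hxx
    obtain ⟨b, hb⟩ := BlocksFrobenius.exists_int_apply β hxx
    rw [ha, hb] at hq
    simp only [Complex.normSq_one, Complex.normSq_intCast] at hq
    have h' : 1 + (a * a + b * b) = ((2 ^ n : ℕ) : ℤ) := by exact_mod_cast hq
    rcases Nat.lt_or_ge n 2 with hn2 | hn2
    · have hc : Nat.card (P : Subgroup G) = 2 := by
        rw [P.card_eq_multiplicity, ← hn, show n = 1 by omega, pow_one]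
      have := (Cfsg.Agent.S4607.result 2 M hM _ isPBlock_principalBlock _ hD).2 hc
      omega
    · obtain ⟨m, hm⟩ : ∃ m, n = m + 2 := ⟨n - 2, by omega⟩
      have h4 : (4 : ℤ) ∣ 1 + (a * a + b * b) := by
        rw [h', hm]
        exact ⟨2 ^ m, by push_cast; ring⟩
      rcases Int.even_or_odd' a with ⟨s, rfl | rfl⟩ <;>
        rcases Int.even_or_odd' b with ⟨t, rfl | rfl⟩ <;> ring_nf at h4 <;> omega
  have hodd : p ^ n ≠ 2 := fun h => hp2 ((Nat.prime_dvd_prime_iff_eq Fact.out Nat.prime_two).1
    (h ▸ dvd_pow_self p hn0))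
  have hind := indicator_sum hM hp2 hxk hlx
  rw [hsum, show ((trivChar G : IrrCharacter G) : G → ℂ) = fun _ => (1 : ℂ) from
    funext fun g => trivChar_apply g, InvolutionCount.indicator_one, one_mul] at hind
  have hind' : SquareRoots.indicator (α : G → ℂ) * (α : G → ℂ) x +
      SquareRoots.indicator (β : G → ℂ) * (β : G → ℂ) x = 0 := by
    linear_combination hind
  have horth' : 1 + ((B : ℂ) * (β : G → ℂ) x + (A : ℂ) * (α : G → ℂ) x) = 0 := by
    linear_combination horth
  have hq' : Complex.normSq (1 : ℂ) + (Complex.normSq ((β : G → ℂ) x) +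
      Complex.normSq ((α : G → ℂ) x)) = ((p ^ n : ℕ) : ℝ) := by linarith
  rcases SquareRoots.indicator_cases α.2 with ea | ea | ea <;>
    rcases SquareRoots.indicator_cases β.2 with eb | eb | eb <;>
    rw [ea, eb] at hind'
  · -- both complex: they are conjugate
    have hck : (Nat.card G - 1).Coprime (Nat.card G) :=
      (Nat.coprime_self_sub_left Nat.card_pos).2 (Nat.coprime_one_left _)
    set γ : IrrCharacter G :=
      ⟨fun h => (α : G → ℂ) (h ^ (Nat.card G - 1)), GaloisConj.isIrrCharacter_pow α.2 hck⟩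
    have hγv : ∀ h : G, (γ : G → ℂ) h = conj ((α : G → ℂ) h) := fun h => by
      show (α : G → ℂ) (h ^ (Nat.card G - 1)) = _
      rw [show h ^ (Nat.card G - 1) = h⁻¹ by
        rw [eq_inv_iff_mul_eq_one, ← pow_succ, Nat.sub_add_cancel Nat.card_pos, pow_card_eq_one']]
      obtain ⟨m, ρ, -, hρ⟩ := α.2
      rw [← hρ, Characters.char_inv]
    have hγm : γ ∈ Cfsg.principalBlock M G :=
      PrincipalColumn.pow_mem_principalBlock hM hck (fun _ => rfl) hαm
    have hin : γ ∈ Finset.univ.filter fun χ : IrrCharacter G =>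
      χ ∈ Cfsg.principalBlock M G := Finset.mem_filter.2 ⟨Finset.mem_univ _, hγm⟩
    rw [hset, Finset.mem_insert, Finset.mem_insert, Finset.mem_singleton] at hin
    refine three_of_column (hint α) horth (Or.inl ?_) hq hodd
    rcases hin with h | h | h
    · exfalso
      refine hα (Subtype.ext (funext fun u => ?_))
      have h2 := hγv u
      rw [h, trivChar_apply] at h2
      rw [trivChar_apply, ← Complex.conj_conj ((α : G → ℂ) u), ← h2, map_one]
    · exfalso
      have hr : ∀ u, ((α : G → ℂ) u).im = 0 := fun u => by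
        have h2 := hγv u
        rw [h] at h2
        exact Complex.conj_eq_iff_im.1 h2.symm
      rcases SquareRoots.indicator_of_real α.2 hr with e | e <;> rw [ea] at e <;> norm_num at e
    · rw [← h, hγv, conj_value hxinv]
  · exact three_of_column (hint α) horth (Or.inr (Or.inr (by linear_combination hind'))) hq hodd
  · exact three_of_column (hint α) horth (Or.inr (Or.inr (by linear_combination -hind'))) hq hodd
  · exact three_of_column (hint β) horth' (Or.inr (Or.inr (by linear_combination hind'))) hq' hodd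
  · exact three_of_column (hint α) horth (Or.inr (Or.inl (by linear_combination hind'))) hq hodd
  · exact three_of_column (hint α) horth (Or.inl (by linear_combination -hind')) hq hodd
  · exact three_of_column (hint β) horth' (Or.inr (Or.inr (by linear_combination -hind'))) hq' hodd
  · exact three_of_column (hint α) horth (Or.inl (by linear_combination hind')) hq hodd
  · exact three_of_column (hint α) horth (Or.inr (Or.inl (by linear_combination -hind'))) hq hodd

end CfsgLib.SmallPrincipal
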