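import Cfsg.Agent.BlocksLocal.PrincipalColumn
import Cfsg.Agent.BlocksFrobenius.InvolutionPairs
import Cfsg.Agent.OneClassP.Block
import Cfsg.Agent.SquareRoots.Basic

/-!
# Sections of rank one in the principal block

If the principal block of `C(x)` has rank one then principal block characters are constant on the
section of `x`; their column has norm the `p`-part of `|C(x)|`, and, for odd `p`, their indicators
weight it to one (`indicator_sum`).
-/

set_option autoImplicit false
set_option linter.unusedSectionVars false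
set_option linter.style.haveILetI false

namespace CfsgLib.SmallPrincipal

open Cfsg CfsgLib.Blocks CfsgLib.PrincipalBlock CfsgLib.BlocksLocal
open scoped ComplexConjugate

universe u

variable {G : Type u} [Group G] [Fintype G] {M : Ideal AlgInt} [M.IsPrime] {p : ℕ} [Fact p.Prime]

/-- The kernel of the principal block of rank one is a normal `p`-complement. -/
theorem setKer_complement (hM : Cfsg.IsPModular p M)
    (hl : Cfsg.blockRank p (Cfsg.principalBlock M G) = 1) :
    (setKer (Cfsg.principalBlock M G)).index = p ^ (Nat.card G).factorization p := by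
  set K := setKer (Cfsg.principalBlock M G)
  have hK := not_dvd_card_setKer (G := G) hM
  haveI : Fintype (G ⧸ K) := Fintype.ofFinite _
  have hP : IsPGroup p (G ⧸ K) := by
    intro q
    obtain ⟨g, rfl⟩ := QuotientGroup.mk_surjective q
    refine ⟨(orderOf g).factorization p, (QuotientGroup.eq_one_iff _).2 ?_⟩
    refine OneClassP.mem_setKer_of_rank_one hl ?_
    rw [orderOf_pow' g (pow_ne_zero _ (Fact.out : p.Prime).ne_zero),
      Nat.gcd_eq_right (Nat.ordProj_dvd _ p)]
    exact Nat.not_dvd_ordCompl Fact.out (orderOf_pos g).ne'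
  obtain ⟨k, hk⟩ := IsPGroup.iff_card.1 hP
  have hidx : K.index = p ^ k := by rw [Subgroup.index_eq_card]; exact hk
  have hc : Nat.card G = Nat.card K * p ^ k := by rw [← hidx, Subgroup.card_mul_index]
  rw [hidx, hc, Nat.factorization_mul Nat.card_pos.ne' (pow_ne_zero _ (Fact.out : p.Prime).ne_zero),
    Finsupp.add_apply, Nat.factorization_eq_zero_of_not_dvd hK,
    Nat.Prime.factorization_pow Fact.out, Finsupp.single_eq_same, zero_add]

variable {x : G} [Fintype (Subgroup.centralizer ({x} : Set G))]

open Classical in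
/-- Sums of products on the section of `x`. -/
theorem sum_section (hM : Cfsg.IsPModular p M) (hx : ∃ k, orderOf x = p ^ k)
    (hl : Cfsg.blockRank p
      (Cfsg.principalBlock M (Subgroup.centralizer ({x} : Set G))) = 1)
    {c c' : Subgroup.centralizer ({x} : Set G)} (hc : ¬ p ∣ orderOf c) (hc' : ¬ p ∣ orderOf c') :
    ∑ χ : IrrCharacter G, (if χ ∈ Cfsg.principalBlock M G then
        (χ : G → ℂ) (x * (c : G)) * conj ((χ : G → ℂ) (x * (c' : G))) else 0) =
      ((p ^ (Nat.card (Subgroup.centralizer ({x} : Set G))).factorization p : ℕ) : ℂ) := by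
  have h1 := blockCoeff_principal_of_normal_complement (G := (Subgroup.centralizer ({x} : Set G))) hM (setKer (Cfsg.principalBlock M (Subgroup.centralizer ({x} : Set G)))) (not_dvd_card_setKer hM)
    ⟨_, setKer_complement hM hl⟩ 1
  rw [Set.indicator_of_mem (SetLike.mem_coe.2 (one_mem (setKer (Cfsg.principalBlock M (Subgroup.centralizer ({x} : Set G)))))), mul_one, setKer_complement hM hl,
    Cfsg.blockCoeff, ← mul_assoc, mul_inv_cancel₀ (Nat.cast_ne_zero.2 Nat.card_pos.ne'), one_mul,
    finsum_irr_mem] at h1
  rw [sum_principal_section_mul_conj hM hx hc hc', ← h1]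
  refine Finset.sum_congr rfl fun ξ _ => ?_
  by_cases hξ : ξ ∈ Cfsg.principalBlock M (Subgroup.centralizer ({x} : Set G))
  · have h : ∀ d : (Subgroup.centralizer ({x} : Set G)), ¬ p ∣ orderOf d → (ξ : (Subgroup.centralizer ({x} : Set G)) → ℂ) d = (ξ : (Subgroup.centralizer ({x} : Set G)) → ℂ) 1 := fun d hd =>
      mem_setKer.1 (OneClassP.mem_setKer_of_rank_one hl hd) ξ hξ
    simp only [if_pos hξ, h c hc, h c' hc']
  · simp [hξ]

open Classical in
/-- The norm of the column. -/
theorem col_norm (hM : Cfsg.IsPModular p M) (hx : ∃ k, orderOf x = p ^ k)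
    (hl : Cfsg.blockRank p
      (Cfsg.principalBlock M (Subgroup.centralizer ({x} : Set G))) = 1) :
    ∑ χ : IrrCharacter G, (if χ ∈ Cfsg.principalBlock M G then
        Complex.normSq ((χ : G → ℂ) x) else 0) =
      ((p ^ (Nat.card (Subgroup.centralizer ({x} : Set G))).factorization p : ℕ) : ℝ) := by
  have h1 : ¬ p ∣ orderOf (1 : Subgroup.centralizer ({x} : Set G)) := by
    simp [(Fact.out : p.Prime).ne_one]
  have h := sum_section hM hx hl h1 h1
  simp only [OneMemClass.coe_one, mul_one] at h
  refine Complex.ofReal_injective ?_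
  rw [Complex.ofReal_natCast, ← h, Complex.ofReal_sum]
  refine Finset.sum_congr rfl fun χ _ => ?_
  split_ifs <;> simp [Complex.mul_conj]

/-- Principal block characters are constant on the section. -/
theorem value_eq (hM : Cfsg.IsPModular p M) (hx : ∃ k, orderOf x = p ^ k)
    (hl : Cfsg.blockRank p
      (Cfsg.principalBlock M (Subgroup.centralizer ({x} : Set G))) = 1)
    {χ : IrrCharacter G} (hχ : χ ∈ Cfsg.principalBlock M G)
    {c : Subgroup.centralizer ({x} : Set G)} (hc : ¬ p ∣ orderOf c) :
    (χ : G → ℂ) (x * (c : G)) = (χ : G → ℂ) x := by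
  classical
  have h1 : ¬ p ∣ orderOf (1 : Subgroup.centralizer ({x} : Set G)) := by
    simp [(Fact.out : p.Prime).ne_one]
  set f : IrrCharacter G → ℂ := fun ψ => if ψ ∈ Cfsg.principalBlock M G then
    (ψ : G → ℂ) (x * (c : G)) - (ψ : G → ℂ) x else 0 with hf
  have hterm : ∀ ψ : IrrCharacter G, f ψ * conj (f ψ) =
      (if ψ ∈ Cfsg.principalBlock M G then (ψ : G → ℂ) (x * (c : G)) *
          conj ((ψ : G → ℂ) (x * (c : G))) else 0)
      - (if ψ ∈ Cfsg.principalBlock M G then (ψ : G → ℂ) (x * (c : G)) *
          conj ((ψ : G → ℂ) (x * ((1 : Subgroup.centralizer ({x} : Set G)) : G))) else 0)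
      - (if ψ ∈ Cfsg.principalBlock M G then
          (ψ : G → ℂ) (x * ((1 : Subgroup.centralizer ({x} : Set G)) : G)) *
          conj ((ψ : G → ℂ) (x * (c : G))) else 0)
      + (if ψ ∈ Cfsg.principalBlock M G then
          (ψ : G → ℂ) (x * ((1 : Subgroup.centralizer ({x} : Set G)) : G)) *
          conj ((ψ : G → ℂ) (x * ((1 : Subgroup.centralizer ({x} : Set G)) : G))) else 0) := by
    intro ψ
    simp only [hf, OneMemClass.coe_one, mul_one]
    split_ifs
    · rw [map_sub]; ring
    · simp
  have hsum : ∑ ψ : IrrCharacter G, Complex.normSq (f ψ) = 0 := by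
    refine Complex.ofReal_injective ?_
    rw [Complex.ofReal_sum, Complex.ofReal_zero]
    simp only [← Complex.mul_conj, hterm, Finset.sum_add_distrib, Finset.sum_sub_distrib]
    rw [sum_section hM hx hl hc hc, sum_section hM hx hl hc h1, sum_section hM hx hl h1 hc,
      sum_section hM hx hl h1 h1]
    ring
  have := (Finset.sum_eq_zero_iff_of_nonneg fun ψ _ => Complex.normSq_nonneg _).1 hsum χ
    (Finset.mem_univ _)
  simp only [Complex.normSq_eq_zero, hf, if_pos hχ, sub_eq_zero] at this
  exact this

open Classical in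
/-- The sum over the section of any irreducible character. -/
theorem sum_setKer (hM : Cfsg.IsPModular p M) (hx : ∃ k, orderOf x = p ^ k)
    (hl : Cfsg.blockRank p
      (Cfsg.principalBlock M (Subgroup.centralizer ({x} : Set G))) = 1)
    (χ : IrrCharacter G) [Fintype (setKer (Cfsg.principalBlock M (Subgroup.centralizer ({x} : Set G))))] :
    ∑ c : setKer (Cfsg.principalBlock M (Subgroup.centralizer ({x} : Set G))),
        (χ : G → ℂ) (x * ((c : Subgroup.centralizer ({x} : Set G)) : G)) =
      (Nat.card (setKer (Cfsg.principalBlock M (Subgroup.centralizer ({x} : Set G)))) : ℂ) *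
        (if χ ∈ Cfsg.principalBlock M G then (χ : G → ℂ) x else 0) := by
  have h1 : ¬ p ∣ orderOf (1 : (Subgroup.centralizer ({x} : Set G))) := by simp [(Fact.out : p.Prime).ne_one]
  have h := blockPart_principal_translate hM hx χ h1
  rw [blockPart_eq_sum _ (isClassFunction_translate (χ : G → ℂ)
    (Characters.isClassFunction_of_isIrr χ.2) x), OneMemClass.coe_one, mul_one] at h
  simp only [mul_one] at h
  rw [← h, Finset.mul_sum]
  have hcoef : ∀ k : (Subgroup.centralizer ({x} : Set G)), (Nat.card (setKer (Cfsg.principalBlock M (Subgroup.centralizer ({x} : Set G)))) : ℂ) * Cfsg.blockCoeff (Cfsg.principalBlock M (Subgroup.centralizer ({x} : Set G))) k =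
      if k ∈ (setKer (Cfsg.principalBlock M (Subgroup.centralizer ({x} : Set G)))) then 1 else 0 := by
    intro k
    have hb := blockCoeff_principal_of_normal_complement (G := (Subgroup.centralizer ({x} : Set G))) hM (setKer (Cfsg.principalBlock M (Subgroup.centralizer ({x} : Set G)))) (not_dvd_card_setKer hM)
      ⟨_, setKer_complement hM hl⟩ k
    rw [← Subgroup.card_mul_index (setKer (Cfsg.principalBlock M (Subgroup.centralizer ({x} : Set G)))), Nat.cast_mul, mul_comm (Nat.card (setKer (Cfsg.principalBlock M (Subgroup.centralizer ({x} : Set G)))) : ℂ), mul_assoc] at hb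
    rw [mul_left_cancel₀ (Nat.cast_ne_zero.2 Subgroup.index_ne_zero_of_finite) hb,
      Set.indicator_apply]
    simp only [SetLike.mem_coe]
  simp only [← mul_assoc, hcoef, ite_mul, one_mul, zero_mul]
  rw [← Finset.sum_filter]
  exact (Finset.sum_subtype _ (by simp) fun k : (Subgroup.centralizer ({x} : Set G)) => (χ : G → ℂ) (x * (k : G))).symm

/-- The square roots of the section of `x` form a coset of the kernel. -/
theorem card_sqrt_section (hM : Cfsg.IsPModular p M) (hp2 : p ≠ 2) (hx : ∃ k, orderOf x = p ^ k)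
    (hl : Cfsg.blockRank p
      (Cfsg.principalBlock M (Subgroup.centralizer ({x} : Set G))) = 1)
    [Fintype (setKer (Cfsg.principalBlock M (Subgroup.centralizer ({x} : Set G))))] :
    ∑ c : setKer (Cfsg.principalBlock M (Subgroup.centralizer ({x} : Set G))),
        (Nat.card {h : G // h * h = x * ((c : Subgroup.centralizer ({x} : Set G)) : G)} : ℂ) =
      (Nat.card (setKer (Cfsg.principalBlock M (Subgroup.centralizer ({x} : Set G)))) : ℂ) := by
  rw [← Nat.cast_sum, ← Nat.card_sigma]
  obtain ⟨k, hk⟩ := hx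
  have hKp : ∀ c ∈ (setKer (Cfsg.principalBlock M (Subgroup.centralizer ({x} : Set G)))), ¬ p ∣ orderOf c := fun c hc h =>
    not_dvd_card_setKer (G := (Subgroup.centralizer ({x} : Set G))) hM (h.trans (Subgroup.orderOf_dvd_natCard (setKer (Cfsg.principalBlock M (Subgroup.centralizer ({x} : Set G)))) hc))
  have hxC : x ∈ (Subgroup.centralizer ({x} : Set G)) := Subgroup.mem_centralizer_singleton_iff.2 rfl
  set xc : (Subgroup.centralizer ({x} : Set G)) := ⟨x, hxC⟩
  obtain ⟨j, hj⟩ : ∃ j : ℕ, xc ^ j * xc ^ j = xc := by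
    have ho : Odd (orderOf xc) := by
      rw [← Subgroup.orderOf_coe]
      show Odd (orderOf x)
      rw [hk]
      exact ((Fact.out : p.Prime).odd_of_ne_two hp2).pow
    obtain ⟨m, hm⟩ := ho
    refine ⟨m + 1, ?_⟩
    rw [← pow_add, show m + 1 + (m + 1) = orderOf xc + 1 by omega, pow_succ, pow_orderOf_eq_one,
      one_mul]
  set π := QuotientGroup.mk' (setKer (Cfsg.principalBlock M (Subgroup.centralizer ({x} : Set G))))
  have hinj : ∀ a b : (Subgroup.centralizer ({x} : Set G)) ⧸ (setKer (Cfsg.principalBlock M (Subgroup.centralizer ({x} : Set G)))), a * a = b * b → a = b := by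
    intro a b hab
    have hodd : (Nat.card ((Subgroup.centralizer ({x} : Set G)) ⧸ (setKer (Cfsg.principalBlock M (Subgroup.centralizer ({x} : Set G)))))).Coprime 2 := by
      rw [← Subgroup.index_eq_card, setKer_complement hM hl]
      exact ((Nat.coprime_primes Fact.out Nat.prime_two).2 hp2).pow_left _
    refine (powCoprime hodd).injective ?_
    simpa [powCoprime, sq] using hab
  have hcomm : ∀ (c : (Subgroup.centralizer ({x} : Set G))) (h : G), c ∈ (setKer (Cfsg.principalBlock M (Subgroup.centralizer ({x} : Set G)))) → h * h = x * (c : G) → h ∈ (Subgroup.centralizer ({x} : Set G)) := by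
    intro c h hc he
    have h1 : Commute h (x * (c : G)) := by rw [← he]; exact (Commute.refl h).mul_right (.refl h)
    have hxc : Commute x (c : G) := (Subgroup.mem_centralizer_singleton_iff.1 c.2).symm
    have hcop : (orderOf x).Coprime (orderOf (c : G)) := by
      rw [hk, Subgroup.orderOf_coe]
      exact (((Fact.out : p.Prime).coprime_iff_not_dvd).2 (hKp c hc)).pow_left _
    obtain ⟨t, ht⟩ := exists_pow_eq_self_of_coprime hcop.symm
    have h2 : Commute h (((x * (c : G)) ^ orderOf (c : G)) ^ t) := (h1.pow_right _).pow_right _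
    rw [hxc.mul_pow, pow_orderOf_eq_one, mul_one, ht] at h2
    exact Subgroup.mem_centralizer_singleton_iff.2 h2.eq
  rw [Nat.cast_inj]
  symm
  refine Nat.card_congr (Equiv.ofBijective (fun c : (setKer (Cfsg.principalBlock M (Subgroup.centralizer ({x} : Set G)))) =>
    (⟨⟨xc⁻¹ * (xc ^ j * (c : (Subgroup.centralizer ({x} : Set G))) * (xc ^ j * (c : (Subgroup.centralizer ({x} : Set G))))), ?_⟩,
      ⟨((xc ^ j * (c : (Subgroup.centralizer ({x} : Set G))) : (Subgroup.centralizer ({x} : Set G))) : G), ?_⟩⟩ :
      Σ c : (setKer (Cfsg.principalBlock M (Subgroup.centralizer ({x} : Set G)))), {h : G // h * h = x * ((c : (Subgroup.centralizer ({x} : Set G))) : G)})) ⟨?_, ?_⟩)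
  · rw [← QuotientGroup.eq_one_iff]
    show π _ = 1
    rw [map_mul, map_inv, map_mul, map_mul,
      show π (c : (Subgroup.centralizer ({x} : Set G))) = 1 from (QuotientGroup.eq_one_iff _).2 c.2, mul_one, ← map_mul, hj,
      inv_mul_cancel]
  · show _ = ((xc : (Subgroup.centralizer ({x} : Set G))) : G) * _
    rw [← Subgroup.coe_mul, ← Subgroup.coe_mul, mul_inv_cancel_left]
  · intro a b hab
    have h := congrArg (fun s : Σ c : (setKer (Cfsg.principalBlock M (Subgroup.centralizer ({x} : Set G)))), {h : G // h * h = x * ((c : (Subgroup.centralizer ({x} : Set G))) : G)} => (s.2 : G)) hab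
    exact Subtype.ext (mul_left_cancel (Subtype.ext h : xc ^ j * (a : (Subgroup.centralizer ({x} : Set G))) = xc ^ j * (b : (Subgroup.centralizer ({x} : Set G)))))
  · rintro ⟨c, h, he⟩
    have hhC := hcomm c h c.2 he
    set hc : (Subgroup.centralizer ({x} : Set G)) := ⟨h, hhC⟩
    have he' : hc * hc = xc * c := Subtype.ext he
    have hπ : π hc = π (xc ^ j) := by
      refine hinj _ _ ?_
      rw [← map_mul, ← map_mul, he', hj, map_mul,
        show π (c : (Subgroup.centralizer ({x} : Set G))) = 1 from (QuotientGroup.eq_one_iff _).2 c.2, mul_one]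
    refine ⟨⟨(xc ^ j)⁻¹ * hc, ?_⟩, ?_⟩
    · rw [← QuotientGroup.eq_one_iff]
      show π _ = 1
      rw [map_mul, map_inv, hπ, inv_mul_cancel]
    · refine Sigma.subtype_ext (Subtype.ext ?_) ?_
      · show xc⁻¹ * _ = (c : (Subgroup.centralizer ({x} : Set G)))
        simp only [mul_inv_cancel_left]
        rw [he', inv_mul_cancel_left]
      · show ((xc ^ j * ((xc ^ j)⁻¹ * hc) : (Subgroup.centralizer ({x} : Set G))) : G) = h
        rw [mul_inv_cancel_left]

open Classical in
/-- For odd `p` the indicators weight the column to one. -/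
theorem indicator_sum (hM : Cfsg.IsPModular p M) (hp2 : p ≠ 2) (hx : ∃ k, orderOf x = p ^ k)
    (hl : Cfsg.blockRank p
      (Cfsg.principalBlock M (Subgroup.centralizer ({x} : Set G))) = 1) :
    ∑ χ : IrrCharacter G, (if χ ∈ Cfsg.principalBlock M G then
        SquareRoots.indicator (χ : G → ℂ) * (χ : G → ℂ) x else 0) = 1 := by
  haveI := Fintype.ofFinite (setKer (Cfsg.principalBlock M (Subgroup.centralizer ({x} : Set G))))
  have h := card_sqrt_section hM hp2 hx hl
  simp only [SquareRoots.card_sqrt_eq] at h
  rw [Finset.sum_comm] at h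
  simp only [← Finset.mul_sum, sum_setKer hM hx hl] at h
  refine mul_left_cancel₀ (Nat.cast_ne_zero.2 Nat.card_pos.ne' :
    (Nat.card (setKer (Cfsg.principalBlock M (Subgroup.centralizer ({x} : Set G)))) : ℂ) ≠ 0) ?_
  rw [mul_one, Finset.mul_sum]
  conv_rhs => rw [← h]
  refine Finset.sum_congr rfl fun χ _ => ?_
  split_ifs <;> ring

end CfsgLib.SmallPrincipal
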